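import Cfsg.Agent.Lib.Orth.SpKlein.Basic
import Cfsg.Agent.Lib.Orth.Frame.Main
import Cfsg.Agent.Lib.Orth.Frame.Five
import Cfsg.Agent.Lib.PrimeOrderElt.ExtraspecialMinus

/-!
# Normalisers of `2^{1+4}` of minus type are maximal in `Sp₄(p)`

The five classes of noncentral involutions give an orthonormal basis of the five-space.

* `extraspecial_normalizer_maximal`
-/

set_option autoImplicit false
set_option linter.unusedSectionVars false

namespace Cfsg.Agent.Orth.SpKlein

open Cfsg Matrix Module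
open QuadraticMap (polar)
open Cfsg.Agent.PrimeOrderElt

variable {F : Type*} [Field F] [Fintype F]

local notation "V5" => Unit ⊕ (Fin 2 ⊕ Fin 2) → F
local notation "M4" => Matrix (Fin 2 ⊕ Fin 2) (Fin 2 ⊕ Fin 2) F
local notation "M5" => Matrix (Unit ⊕ (Fin 2 ⊕ Fin 2)) (Unit ⊕ (Fin 2 ⊕ Fin 2)) F
local notation "GL5" => GL (Unit ⊕ (Fin 2 ⊕ Fin 2)) F
local notation "GL4" => GL (Fin 2 ⊕ Fin 2) F
local notation "Q5" => quadOdd 2 F
local notation "f" => Cfsg.sympForm 2 F

theorem smul_one_cancel {a b : F} (h : a • (1 : M4) = b • 1) : a = b := by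
  simpa using congr_fun (congr_fun h (Sum.inl 0)) (Sum.inl 0)

/-- An involution of `R` anticommuting with a member is `sm` of a unit vector. -/
theorem exists_sm_of_invol {R : Subgroup GL4} (hR : MinusFour R) {x k : GL4} (hx : x ∈ R)
    (hxx : x * x = 1) (hk : x * k = -(k * x)) :
    sm (co (x : M4)) = (x : M4) ∧ Q5 (co (x : M4)) = 1 := by
  have h2 := hR.two_ne
  have hSA : IsSA (x : M4) := fun u v => by
    conv_rhs => rw [← isIsom_mulVec (hR.le hx) u ((x : M4) *ᵥ v)]
    rw [Matrix.mulVec_mulVec, ← Units.val_mul, hxx, Units.val_one, Matrix.one_mulVec]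
  have htr : (x : M4).trace = 0 := by
    have h := congrArg (fun X : GL4 => ((X * k⁻¹ : GL4) : M4).trace) hk
    simp only [mul_inv_cancel_right, neg_mul, Units.val_neg, Matrix.trace_neg, Units.val_mul,
      Matrix.trace_units_conj] at h
    exact (mul_eq_zero.1 (show 2 * (x : M4).trace = 0 by linear_combination h)).resolve_left h2
  have hs := sm_co hSA htr h2
  refine ⟨hs, smul_one_cancel (F := F) ?_⟩
  rw [← sm_sq, hs, ← Units.val_mul, hxx, one_smul, Units.val_one]

/-- Anticommuting involutions are orthogonal. -/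
theorem polar_eq_zero_of_anti {x y : GL4} {u v : V5} (hu : sm u = (x : M4)) (hv : sm v = (y : M4))
    (h : x * y = -(y * x)) : polar ⇑Q5 u v = 0 := by
  refine smul_one_cancel (F := F) ?_
  rw [← sm_anti, hu, hv, ← Units.val_mul, h, Units.val_neg, Units.val_mul, neg_add_cancel, zero_smul]

/-- Five pairwise anticommuting involutions generating the group. -/
theorem exists_five_invol {R : Subgroup GL4} (hR : MinusFour R) :
    ∃ w : Fin 5 → GL4, (∀ k, w k ∈ R ∧ w k * w k = 1) ∧ (∀ k l, k ≠ l → w k * w l = -(w l * w k)) ∧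
      R ≤ Subgroup.closure (Set.range w) := by
  obtain ⟨a, ha, c, hc, i, hi, j, hj, haa, hcc, hii, hjj, hac, hij, hia, hic, hja, hjc⟩ := hR.exists_frame
  have hca : c * a = -(a * c) := by rw [hac, neg_neg]
  have hji : j * i = -(i * j) := by rw [hij, neg_neg]
  have hca' : ∀ x, c * (a * x) = -(a * (c * x)) := fun x => by rw [← mul_assoc, hca, neg_mul, mul_assoc]
  have hji' : ∀ x, j * (i * x) = -(i * (j * x)) := fun x => by rw [← mul_assoc, hji, neg_mul, mul_assoc]
  have hia' : ∀ x, i * (a * x) = a * (i * x) := fun x => by rw [← mul_assoc, hia, mul_assoc]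
  have hic' : ∀ x, i * (c * x) = c * (i * x) := fun x => by rw [← mul_assoc, hic, mul_assoc]
  have hja' : ∀ x, j * (a * x) = a * (j * x) := fun x => by rw [← mul_assoc, hja, mul_assoc]
  have hjc' : ∀ x, j * (c * x) = c * (j * x) := fun x => by rw [← mul_assoc, hjc, mul_assoc]
  have haa' : ∀ x, a * (a * x) = x := fun x => by rw [← mul_assoc, haa, one_mul]
  have hcc' : ∀ x, c * (c * x) = -x := fun x => by rw [← mul_assoc, hcc, neg_mul, one_mul]
  have hii' : ∀ x, i * (i * x) = -x := fun x => by rw [← mul_assoc, hii, neg_mul, one_mul]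
  have hjj' : ∀ x, j * (j * x) = -x := fun x => by rw [← mul_assoc, hjj, neg_mul, one_mul]
  refine ⟨![a, a * c, c * i, c * j, c * (i * j)], fun k => ?_, fun k l hkl => ?_, fun x hx => ?_⟩
  · fin_cases k
    · exact ⟨ha, haa⟩
    all_goals
      refine ⟨?_, ?_⟩
    · exact R.mul_mem ha hc
    · simp [mul_assoc, hca', hca, haa, haa', hcc]
    · exact R.mul_mem hc hi
    · simp [mul_assoc, hic', hic, hcc, hcc', hii]
    · exact R.mul_mem hc hj
    · simp [mul_assoc, hjc', hjc, hcc, hcc', hjj]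
    · exact R.mul_mem hc (R.mul_mem hi hj)
    · simp [mul_assoc, hic', hic, hjc', hjc, hcc, hcc', hji', hji, hii, hii', hjj]
  · fin_cases k <;> fin_cases l <;> first
      | exact absurd rfl hkl
      | simp [mul_assoc, hca, hca', hji, hji', hia, hia', hic, hic', hja, hja', hjc, hjc', haa, haa',
          hcc, hcc', hii, hii', hjj, hjj']
  · obtain ⟨W, hW⟩ : ∃ W, W = Subgroup.closure (Set.range ![a, a * c, c * i, c * j, c * (i * j)]) :=
      ⟨_, rfl⟩
    rw [← hW]
    have hw : ∀ k, ![a, a * c, c * i, c * j, c * (i * j)] k ∈ W := fun k =>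
      hW ▸ Subgroup.subset_closure ⟨k, rfl⟩
    have haW : a ∈ W := hw 0
    have hcW : c ∈ W := by have := W.mul_mem haW (hw 1); simpa [haa'] using this
    have hiW : i ∈ W := by have := W.mul_mem (W.inv_mem hcW) (hw 2); simpa using this
    have hjW : j ∈ W := by have := W.mul_mem (W.inv_mem hcW) (hw 3); simpa using this
    obtain ⟨m, n, s, hs, rfl, hsa, hsc⟩ := hR.exists_decomp ha hc hac hx
    obtain ⟨o, q, t, ht, rfl, hti, htj⟩ := hR.exists_decomp hi hj hij hs
    have hcancel : ∀ (p : GL4) (r : GL4), p * r = r * p → ∀ y, p * y * r = r * (p * y) → y * r = r * y := by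
      intro p r hpr y hy
      refine mul_left_cancel (a := p) ?_
      rw [← mul_assoc, hy, ← mul_assoc, ← hpr, mul_assoc]
    have hbif : ∀ (b : Bool) {y r : GL4}, y * r = r * y →
        (bif b then y else 1) * r = r * (bif b then y else 1) := by
      intro b y r h; cases b
      · simp
      · exact h
    have hta : t * a = a * t :=
      hcancel _ a (Commute.mul_left (hbif o hia) (hbif q hja)) t hsa
    have htc : t * c = c * t :=
      hcancel _ c (Commute.mul_left (hbif o hic) (hbif q hjc)) t hsc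
    obtain ⟨e, he⟩ := hR.scalar_of_commute_frame ha hc hi hj hac hij hia hic hja hjc (M := (t : M4))
      (by rw [← Units.val_mul, hta, Units.val_mul]) (by rw [← Units.val_mul, htc, Units.val_mul])
      (by rw [← Units.val_mul, hti, Units.val_mul]) (by rw [← Units.val_mul, htj, Units.val_mul])
    have hneg : (-1 : GL4) ∈ W := hcc ▸ W.mul_mem hcW hcW
    have htW : t ∈ W := by
      rcases hR.central t ht fun y _ => Units.ext (by
        rw [Units.val_mul, Units.val_mul, he, Matrix.smul_mul, Matrix.mul_smul, one_mul, mul_one]) with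
        rfl | rfl
      · exact W.one_mem
      · exact hneg
    refine W.mul_mem (W.mul_mem ?_ ?_) (W.mul_mem (W.mul_mem ?_ ?_) htW)
    · cases m; exacts [W.one_mem, haW]
    · cases n; exacts [W.one_mem, hcW]
    · cases o; exacts [W.one_mem, hiW]
    · cases q; exacts [W.one_mem, hjW]

open Cfsg.Agent.Orth.Frame in
/-- The normaliser of an irreducible `2^{1+4}` of minus type is maximal in `Sp₄(p)`. -/
theorem extraspecial_normalizer_maximal (hprime : (Fintype.card F).Prime) {R : Subgroup GL4}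
    (hR : MinusFour R) :
    Cfsg.Geo.IsMaximalIn (Cfsg.spGL 2 F) (Cfsg.Geo.subgroupNormalizer R ⊓ Cfsg.spGL 2 F) := by
  classical
  have h2 := hR.two_ne
  haveI : Fact ((2 : F) ≠ 0) := ⟨h2⟩
  obtain ⟨w, hw, hanti, hgen⟩ := exists_five_invol hR
  obtain ⟨e, -⟩ : ∃ e : Fin 5 ≃ Unit ⊕ (Fin 2 ⊕ Fin 2), True :=
    ⟨(Fintype.equivFinOfCardEq (by simp)).symm, trivial⟩
  obtain ⟨p, hp⟩ : ∃ p : Fin 5 → V5, p = fun k => co (w k : M4) := ⟨_, rfl⟩
  have hsm : ∀ k, sm (p k) = (w k : M4) ∧ Q5 (p k) = 1 := fun k => by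
    obtain ⟨l, hl⟩ := exists_ne k
    rw [hp]
    exact exists_sm_of_invol hR (hw k).1 (hw k).2 (hanti k l hl.symm)
  have horth : ∀ k l, k ≠ l → polar ⇑Q5 (p k) (p l) = 0 := fun k l hkl =>
    polar_eq_zero_of_anti (hsm k).1 (hsm l).1 (hanti k l hkl)
  -- the change of coordinates
  obtain ⟨M, hM⟩ : ∃ M : Matrix (Unit ⊕ (Fin 2 ⊕ Fin 2)) (Unit ⊕ (Fin 2 ⊕ Fin 2)) F,
      M = Matrix.of fun m j => p (e.symm j) m := ⟨_, rfl⟩
  have hMe : ∀ j, M *ᵥ unitVec j = p (e.symm j) := fun j => by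
    rw [hM, unitVec, Matrix.mulVec_single_one]; rfl
  have hMx : ∀ x, M *ᵥ x = ∑ j, x j • p (e.symm j) := fun x => by
    conv_lhs => rw [eq_sum_unitVec x]
    rw [Matrix.mulVec_sum]
    exact Finset.sum_congr rfl fun j _ => by rw [Matrix.mulVec_smul, hMe]
  have horth' : ∀ i j, i ≠ j → polar ⇑Q5 (p (e.symm i)) (p (e.symm j)) = 0 := fun i j hij =>
    horth _ _ (e.symm.injective.ne hij)
  have hQM : ∀ x, Q5 (M *ᵥ x) = Frame.sq x := fun x => by
    rw [hMx, Q_sum_orth _ _ fun i _ j _ hij => by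
      rw [pl_smul_left, pl_smul_right, horth' i j hij, mul_zero, mul_zero], sq_apply, dotProduct]
    exact Finset.sum_congr rfl fun j _ => by rw [Q_smul, (hsm _).2]; ring
  have hcoord : ∀ x j, polar ⇑Q5 (M *ᵥ x) (p (e.symm j)) = 2 * x j := fun x j => by
    rw [hMx, polar_sum_left, Finset.sum_eq_single j
      (fun i _ hi => by rw [pl_smul_left, horth' i j hi, mul_zero]) (by simp), pl_smul_left, pl_self,
      (hsm _).2, mul_one, mul_comm]
  have hMu : IsUnit M := by
    refine Matrix.mulVec_injective_iff_isUnit.1 fun x y hxy => funext fun j => mul_left_cancel₀ h2 ?_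
    rw [← hcoord, ← hcoord, show M *ᵥ x = M *ᵥ y from hxy]
  obtain ⟨P, hP⟩ : ∃ P : GL (Unit ⊕ (Fin 2 ⊕ Fin 2)) F,
      (P : Matrix (Unit ⊕ (Fin 2 ⊕ Fin 2)) (Unit ⊕ (Fin 2 ⊕ Fin 2)) F) = M := ⟨hMu.unit, rfl⟩
  have hPi : ∀ x, (P : M5) *ᵥ
      ((P⁻¹ : GL (Unit ⊕ (Fin 2 ⊕ Fin 2)) F) : M5) *ᵥ x = x := fun x => by
    rw [Matrix.mulVec_mulVec, ← Units.val_mul, mul_inv_cancel, Units.val_one, Matrix.one_mulVec]
  have hPi' : ∀ x, ((P⁻¹ : GL (Unit ⊕ (Fin 2 ⊕ Fin 2)) F) : M5) *ᵥ
      ((P : M5) *ᵥ x) = x := fun x => by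
    rw [Matrix.mulVec_mulVec, ← Units.val_mul, inv_mul_cancel, Units.val_one, Matrix.one_mulVec]
  let φ : IsoGrp (Frame.sq (ι := Unit ⊕ (Fin 2 ⊕ Fin 2)) (F := F)) →* IsoGrp Q5 :=
    MonoidHom.mk' (fun g => ⟨P * (g : GL5) * P⁻¹, fun x _ => by
      show Q5 (((P * (g : GL5) * P⁻¹ : GL5) : M5) *ᵥ x) = Q5 x
      conv_rhs => rw [← hPi x]
      rw [Units.val_mul, Units.val_mul, ← Matrix.mulVec_mulVec, ← Matrix.mulVec_mulVec, hP, hQM,
        hQM, ← ap_apply, Q_ap]⟩)
      fun a b => Subtype.ext (by simp [mul_assoc])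
  have hsurj : Function.Surjective φ := by
    intro h
    refine ⟨⟨P⁻¹ * (h : GL5) * P, fun x _ => ?_⟩, Subtype.ext (by simp [φ, mul_assoc])⟩
    show Frame.sq (((P⁻¹ * (h : GL5) * P : GL5) : M5) *ᵥ x) = Frame.sq x
    rw [← hQM, ← hQM, ← hP, Units.val_mul, Units.val_mul, ← Matrix.mulVec_mulVec,
      ← Matrix.mulVec_mulVec, hPi, ← ap_apply, Q_ap]
  have hinjφ : Function.Injective φ := fun a b h => by
    have h' := congrArg (fun z : IsoGrp Q5 => (z : GL5)) h
    simpa [φ] using h'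
  have hΩ : (Omega F ⇑(Frame.sq (ι := Unit ⊕ (Fin 2 ⊕ Fin 2)) (F := F))).map φ = Omega F ⇑Q5 := by
    show (commutator _).map φ = commutator _
    rw [map_commutator_eq, MonoidHom.range_eq_top.2 hsurj]; rfl
  have happ : ∀ g x, ap (φ g) (M *ᵥ x) = M *ᵥ ap g x := fun g x => by
    show ((P * (g : GL5) * P⁻¹ : GL5) : M5) *ᵥ (M *ᵥ x) = _
    rw [Units.val_mul, Units.val_mul, ← Matrix.mulVec_mulVec, ← Matrix.mulVec_mulVec, ← hP, hPi',
      ap_apply]
  have hMinj : Function.Injective (fun x => M *ᵥ x) := Matrix.mulVec_injective_iff_isUnit.2 hMu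
  -- the involutions of `R`
  have hinv : ∀ x ∈ R, x * x = 1 → x ≠ 1 → x ≠ -1 → ∃ (l : Fin 5) (c : F), (x : M4) = c • (w l : M4) := by
    intro x hx hxx hx1 hx2
    obtain ⟨k, -, hk⟩ := hR.exists_anti hx hx1 hx2
    obtain ⟨hs, -⟩ := exists_sm_of_invol hR hx hxx hk
    by_contra! hno
    have hall : ∀ l, polar ⇑Q5 (co (x : M4)) (p l) = 0 := by
      intro l
      refine polar_eq_zero_of_anti hs (hsm l).1 ((hR.comm x hx _ (hw l).1).resolve_left fun hc => ?_)
      have h := sm_anti (co (x : M4)) (p l)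
      rw [hs, (hsm l).1, ← Units.val_mul, ← Units.val_mul, ← hc, Units.val_mul] at h
      have h' := congrArg (fun X : M4 => X * (w l : M4)) h
      simp only [add_mul, mul_assoc, ← Units.val_mul (w l) (w l), (hw l).2, Units.val_one, mul_one,
        Matrix.smul_mul, one_mul, ← two_smul F] at h'
      exact hno l (2⁻¹ * polar ⇑Q5 (co (x : M4)) (p l)) (by
        rw [mul_smul, ← h', smul_smul, inv_mul_cancel₀ h2, one_smul])
    obtain ⟨y, hy⟩ := Finite.injective_iff_surjective.1 hMinj (co (x : M4))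
    have hy0 : y = 0 := funext fun j => (mul_eq_zero.1 (by
      rw [← hcoord, show M *ᵥ y = co (x : M4) from hy]; exact hall _)).resolve_left h2
    rw [← hy, hy0] at hs
    refine x.isUnit.ne_zero ?_
    rw [← hs]
    show sm (M *ᵥ 0) = 0
    rw [Matrix.mulVec_zero, map_zero]
  have hconj : ∀ (g : ↥(Cfsg.spGL 2 F)) k, sm (ap (kl g) (p k)) =
      (((g : GL4) * w k * (g : GL4)⁻¹ : GL4) : M4) := fun g k => by
    rw [sm_kl, (hsm k).1, Units.val_mul, Units.val_mul]
  -- the normaliser is the monomial group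
  have hN : ∀ (g : ↥(Cfsg.spGL 2 F)) g', φ g' = kl g →
      ((g : GL4) ∈ Cfsg.Geo.subgroupNormalizer R ↔ Mono g') := by
    intro g g' hg'
    have hrow : ∀ j, ap (kl g) (p (e.symm j)) = M *ᵥ ap g' (unitVec j) := fun j => by
      rw [← hMe, ← hg', happ]
    constructor
    · intro hg j
      have hmem := (Subgroup.mem_normalizer_iff.1 hg (w (e.symm j))).1 (hw _).1
      obtain ⟨hne1, hne2⟩ : w (e.symm j) ≠ 1 ∧ w (e.symm j) ≠ -1 := by
        obtain ⟨l, hl⟩ := exists_ne (e.symm j)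
        exact hR.not_central (hanti _ l hl.symm)
      obtain ⟨l, c, hl⟩ := hinv _ hmem
        (by rw [show ∀ a b : GL4, a * b * a⁻¹ * (a * b * a⁻¹) = a * (b * b) * a⁻¹ from
          fun a b => by group, (hw _).2, mul_one, mul_inv_cancel])
        (fun h => hne1 (by simpa using h)) (fun h => hne2 (by
          simpa [mul_assoc] using congrArg (fun X => (g : GL4)⁻¹ * X * (g : GL4)) h))
      refine ⟨e l, c, hMinj ?_⟩
      show M *ᵥ ap g' (unitVec j) = M *ᵥ (c • unitVec (e l))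
      rw [← hrow, Matrix.mulVec_smul, hMe, e.symm_apply_apply]
      exact sm_inj (by rw [hconj, hl, map_smul, (hsm l).1])
    · intro hm
      have hgw : ∀ k, (g : GL4) * w k * (g : GL4)⁻¹ ∈ R := by
        intro k
        obtain ⟨j, c, hc⟩ := hm (e k)
        have h := hrow (e k)
        rw [e.symm_apply_apply, hc, Matrix.mulVec_smul, hMe] at h
        have hc2 := congrArg ⇑Q5 h
        rw [Q_ap, Q_smul, (hsm _).2, (hsm _).2, mul_one] at hc2
        have hs := hconj g k
        rw [h, map_smul, (hsm _).1] at hs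
        rcases mul_self_eq_one_iff.1 hc2.symm with rfl | rfl
        · rw [one_smul] at hs
          exact Units.ext hs ▸ (hw _).1
        · rw [neg_one_smul] at hs
          have e1 : (g : GL4) * w k * (g : GL4)⁻¹ = (-1) * w (e.symm j) := Units.ext (by
            rw [← hs, Units.val_mul, Units.val_neg, Units.val_one, neg_one_mul])
          exact e1 ▸ R.mul_mem hR.neg_mem (hw _).1
      have hle : ∀ x ∈ R, (g : GL4) * x * (g : GL4)⁻¹ ∈ R := fun x hx => by
        have h : R ≤ R.comap (MulAut.conj (g : GL4)).toMonoidHom :=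
          hgen.trans ((Subgroup.closure_le _).2 (by rintro _ ⟨k, rfl⟩; exact hgw k))
        exact h hx
      refine Subgroup.mem_normalizer_iff.2 fun x => ⟨hle x, fun hx => ?_⟩
      have hsur : Function.Surjective (fun r : R => (⟨_, hle r r.2⟩ : R)) :=
        Finite.injective_iff_surjective.1 fun r s h => Subtype.ext (by simpa using congrArg Subtype.val h)
      obtain ⟨r, hr⟩ := hsur ⟨_, hx⟩
      have h := congrArg Subtype.val hr
      simp at h
      exact h ▸ r.2
  have hcard : Fintype.card (Unit ⊕ (Fin 2 ⊕ Fin 2)) = 5 := by simp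
  have hlift : ∀ g', g' ∈ Omega F ⇑(Frame.sq (ι := Unit ⊕ (Fin 2 ⊕ Fin 2)) (F := F)) →
      ∃ g : ↥(Cfsg.spGL 2 F), kl g = φ g' := fun g' hg' =>
    omega_le_range_kl (hΩ ▸ Subgroup.mem_map_of_mem φ hg')
  refine Transvect.isMaximalIn_of_forall inf_le_right ?_ fun M' hHM hMS x hx hxH => ?_
  · obtain ⟨g', hg', hgm⟩ := exists_omega_nonmono (ι := Unit ⊕ (Fin 2 ⊕ Fin 2)) (F := F) h2 (by omega)
    obtain ⟨g, hg⟩ := hlift g' hg'
    exact ⟨g, g.2, fun hH => hgm ((hN g g' hg.symm).1 hH.1)⟩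
  · have hneg : (-1 : GL4) ∈ M' :=
      hHM ⟨Subgroup.le_normalizer hR.neg_mem, hR.le hR.neg_mem⟩
    refine spGL_le_of_image hneg ?_
    set N := (M'.comap (Cfsg.spGL 2 F).subtype).map kl
    have hK : Over (N.comap φ) := by
      refine Over.of_mono h2 (fun g' hg' => ?_) fun g' hg' hm => ?_
      · obtain ⟨g, -, hg⟩ := hg'
        have : φ g' ∈ (Omega F ⇑(Frame.sq (ι := Unit ⊕ (Fin 2 ⊕ Fin 2)) (F := F))).map φ :=
          hΩ ▸ hg ▸ kl_mem_omega g
        obtain ⟨y, hy, hye⟩ := this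
        exact hinjφ hye ▸ hy
      · obtain ⟨g, hg⟩ := hlift g' hg'
        exact ⟨g, hHM ⟨(hN g g' hg.symm).2 hm, g.2⟩, hg⟩
    obtain ⟨g', hg'⟩ := hsurj (kl ⟨x, hMS hx⟩)
    have hgK : g' ∈ N.comap φ := ⟨⟨x, hMS hx⟩, hx, hg'.symm⟩
    have hgm : ¬ Mono g' := fun hm => hxH ⟨(hN ⟨x, hMS hx⟩ g' hg').2 hm, hMS hx⟩
    rw [← hΩ, Subgroup.map_le_iff_le_comap]
    exact omega_le_of_nonmono_five hK hcard hprime hgK hgm

end Cfsg.Agent.Orth.SpKlein
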