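import Cfsg.Agent.Lib.Orth.Nondeg
import Cfsg.Agent.Lib.Orth.Klein
import Cfsg.Agent.Lib.Transvect.Symp

/-!
# `Sp₄ → Ω₅` : the action on self-adjoint matrices of trace zero

* `sm` : the five-dimensional space of self-adjoint trace-zero matrices, `sm_sq`
* `kl` : the homomorphism `Sp₄(F) →* O(quadOdd 2)`; `kl_ker`, `omega_le_range_kl`, `kl_mem_omega`
-/

set_option autoImplicit false
set_option linter.unusedSectionVars false

namespace Cfsg.Agent.Orth.SpKlein

open Cfsg Matrix Module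
open QuadraticMap (polar)
open Cfsg.Agent.Transvect (app IsIsom)

variable {F : Type*} [Field F]

local notation "V4" => Fin 2 ⊕ Fin 2 → F
local notation "V5" => Unit ⊕ (Fin 2 ⊕ Fin 2) → F
local notation "M4" => Matrix (Fin 2 ⊕ Fin 2) (Fin 2 ⊕ Fin 2) F
local notation "Q5" => quadOdd 2 F
local notation "f" => Cfsg.sympForm 2 F

theorem f_apply (u v : V4) : f u v =
    u (.inr 0) * v (.inl 0) + u (.inr 1) * v (.inl 1)
      - u (.inl 0) * v (.inr 0) - u (.inl 1) * v (.inr 1) := by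
  simp [Cfsg.sympForm, Matrix.J, Matrix.mulVec, dotProduct, Fintype.sum_sum_type, Fin.sum_univ_two,
    Matrix.fromBlocks, Matrix.one_apply]
  ring

theorem Q5_apply (v : V5) : Q5 v = v (.inl ()) ^ 2 + v (.inr (.inl 0)) * v (.inr (.inr 0)) +
    v (.inr (.inl 1)) * v (.inr (.inr 1)) := by
  rw [show Q5 v = quadFormOdd 2 F v from rfl, quadFormOdd, Fin.sum_univ_two]; ring

/-- The self-adjoint matrix with the given coordinates. -/
def sm : V5 →ₗ[F] M4 where
  toFun v := Matrix.fromBlocks !![v (.inl ()), v (.inr (.inl 0)); v (.inr (.inr 0)), -v (.inl ())]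
    !![0, v (.inr (.inl 1)); -v (.inr (.inl 1)), 0] !![0, -v (.inr (.inr 1)); v (.inr (.inr 1)), 0]
    !![v (.inl ()), v (.inr (.inr 0)); v (.inr (.inl 0)), -v (.inl ())]
  map_add' u v := by
    ext i j
    rcases i with i | i <;> rcases j with j | j <;> fin_cases i <;> fin_cases j <;> simp <;> ring
  map_smul' c v := by
    ext i j
    rcases i with i | i <;> rcases j with j | j <;> fin_cases i <;> fin_cases j <;> simp

/-- The coordinates of a matrix. -/
def co : M4 →ₗ[F] V5 where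
  toFun M := Sum.elim (fun _ => M (.inl 0) (.inl 0))
    (Sum.elim ![M (.inl 0) (.inl 1), M (.inl 0) (.inr 1)] ![M (.inl 1) (.inl 0), -M (.inr 0) (.inl 1)])
  map_add' u v := by
    funext k; rcases k with k | k | k <;> (try fin_cases k) <;> simp <;> ring
  map_smul' c v := by
    funext k; rcases k with k | k | k <;> (try fin_cases k) <;> simp

theorem co_sm (v : V5) : co (sm v) = v := by
  funext k; rcases k with ⟨⟩ | k | k <;> (try fin_cases k) <;> simp [co, sm]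

theorem sm_inj {u v : V5} (h : sm u = sm v) : u = v := by rw [← co_sm u, h, co_sm]

/-- Self-adjointness for the symplectic form. -/
def IsSA (M : M4) : Prop := ∀ u v : V4, f (M *ᵥ u) v = f u (M *ᵥ v)

theorem isSA_sm (v : V5) : IsSA (sm v) := fun u w => by
  simp [f_apply, sm, Matrix.mulVec, dotProduct, Fintype.sum_sum_type, Fin.sum_univ_two]
  ring

theorem trace_sm (v : V5) : (sm v).trace = 0 := by
  simp [Matrix.trace, Fintype.sum_sum_type, Fin.sum_univ_two, sm]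

theorem sm_co {M : M4} (h : IsSA M) (ht : M.trace = 0) (h2 : (2 : F) ≠ 0) : sm (co M) = M := by
  have e : ∀ i j, f (M *ᵥ Pi.single i 1) (Pi.single j 1) = f (Pi.single i 1) (M *ᵥ Pi.single j 1) :=
    fun i j => h _ _
  have e1 := e (.inl 0) (.inr 0); have e2 := e (.inl 0) (.inr 1)
  have e3 := e (.inl 1) (.inr 0); have e4 := e (.inl 1) (.inr 1)
  have e5 := e (.inl 0) (.inl 0); have e6 := e (.inl 0) (.inl 1); have e7 := e (.inl 1) (.inl 1)
  have e8 := e (.inr 0) (.inr 0); have e9 := e (.inr 0) (.inr 1); have e10 := e (.inr 1) (.inr 1)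
  simp [f_apply, Matrix.mulVec_single] at e1 e2 e3 e4 e5 e6 e7 e8 e9 e10
  simp [Matrix.trace, Fintype.sum_sum_type, Fin.sum_univ_two] at ht
  have hh : ∀ x : F, x = -x → x = 0 := fun x hx => by
    have : 2 * x = 0 := by linear_combination hx
    exact (mul_eq_zero.1 this).resolve_left h2
  have m00 : M (.inl 0) (.inl 0) + M (.inl 1) (.inl 1) = 0 :=
    (mul_eq_zero.1 (by linear_combination ht + e1 + e4 :
      (2 : F) * (M (.inl 0) (.inl 0) + M (.inl 1) (.inl 1)) = 0)).resolve_left h2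
  have m11 : M (.inl 1) (.inl 1) = -M (.inl 0) (.inl 0) := by linear_combination m00
  have n5 := hh _ e5
  have n7 := hh _ e7
  have n8 := hh _ e8.symm
  have n10 := hh _ e10.symm
  ext i j
  rcases i with i | i <;> rcases j with j | j <;> fin_cases i <;> fin_cases j <;>
    simp [sm, co, ← e1, ← e2, ← e3, ← e4, e6, ← e9, m11, n5, n7, n8, n10]

theorem sm_sq (v : V5) : sm v * sm v = Q5 v • (1 : M4) := by
  ext i j
  rcases i with i | i <;> rcases j with j | j <;> fin_cases i <;> fin_cases j <;>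
    simp [Matrix.mul_apply, Fintype.sum_sum_type, Fin.sum_univ_two, sm, Q5_apply] <;> ring

theorem sm_anti (u v : V5) : sm u * sm v + sm v * sm u = polar ⇑Q5 u v • (1 : M4) := by
  have h := sm_sq (u + v)
  rw [map_add, add_mul, mul_add, mul_add, sm_sq, sm_sq, Q_add, add_smul, add_smul] at h
  linear_combination (norm := module) h

theorem sm_sandwich (w x : V5) (hw : Q5 w ≠ 0) :
    sm w * sm x * sm w = -(Q5 w) • sm (ap (refl Q5 w) x) := by
  have h : sm w * sm x = polar ⇑Q5 w x • (1 : M4) - sm x * sm w :=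
    eq_sub_of_add_eq (sm_anti w x)
  rw [h, sub_mul, Matrix.smul_mul, Matrix.one_mul, mul_assoc, sm_sq, Matrix.mul_smul, Matrix.mul_one,
    refl_ap, map_sub, map_smul, smul_sub, smul_smul,
    show -Q5 w * ((Q5 w)⁻¹ * polar ⇑Q5 w x) = -polar ⇑Q5 w x by field_simp]
  module

theorem isIsom_mulVec {g : GL (Fin 2 ⊕ Fin 2) F} (hg : g ∈ Cfsg.spGL 2 F) (u v : V4) :
    f ((g : M4) *ᵥ u) ((g : M4) *ᵥ v) = f u v := Transvect.mem_spGL_iff.1 hg u v

theorem isSA_conj {g : GL (Fin 2 ⊕ Fin 2) F} (hg : g ∈ Cfsg.spGL 2 F) {M : M4} (hM : IsSA M) :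
    IsSA ((g : M4) * M * ((g⁻¹ : GL (Fin 2 ⊕ Fin 2) F) : M4)) := fun u v => by
  have hi : ∀ x : V4, (g : M4) *ᵥ (((g⁻¹ : GL (Fin 2 ⊕ Fin 2) F) : M4) *ᵥ x) = x := fun x => by
    rw [Matrix.mulVec_mulVec, Units.mul_inv, Matrix.one_mulVec]
  conv_lhs => rw [← hi v]
  conv_rhs => rw [← hi u]
  simp only [← Matrix.mulVec_mulVec]
  rw [isIsom_mulVec hg, isIsom_mulVec hg]
  exact hM _ _

theorem sm_co_conj {g : GL (Fin 2 ⊕ Fin 2) F} (hg : g ∈ Cfsg.spGL 2 F) (h2 : (2 : F) ≠ 0) (v : V5) :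
    sm (co ((g : M4) * sm v * ((g⁻¹ : GL (Fin 2 ⊕ Fin 2) F) : M4))) =
      (g : M4) * sm v * ((g⁻¹ : GL (Fin 2 ⊕ Fin 2) F) : M4) :=
  sm_co (isSA_conj hg (isSA_sm v)) (by rw [Matrix.trace_units_conj]; exact trace_sm v) h2

/-- The conjugation map in coordinates. -/
noncomputable def klLin (g : GL (Fin 2 ⊕ Fin 2) F) : V5 →ₗ[F] V5 :=
  co ∘ₗ LinearMap.mulRight F ((g⁻¹ : GL (Fin 2 ⊕ Fin 2) F) : M4) ∘ₗ LinearMap.mulLeft F (g : M4) ∘ₗ sm

theorem klLin_apply (g : GL (Fin 2 ⊕ Fin 2) F) (v : V5) :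
    klLin g v = co ((g : M4) * sm v * ((g⁻¹ : GL (Fin 2 ⊕ Fin 2) F) : M4)) := rfl

theorem Q_klLin {g : GL (Fin 2 ⊕ Fin 2) F} (hg : g ∈ Cfsg.spGL 2 F) (h2 : (2 : F) ≠ 0) (v : V5) :
    Q5 (klLin g v) = Q5 v := by
  have h := sm_sq (klLin g v)
  rw [klLin_apply, sm_co_conj hg h2] at h
  rw [show (g : M4) * sm v * ((g⁻¹ : GL (Fin 2 ⊕ Fin 2) F) : M4) *
      ((g : M4) * sm v * ((g⁻¹ : GL (Fin 2 ⊕ Fin 2) F) : M4)) =
      (g : M4) * (sm v * sm v) * ((g⁻¹ : GL (Fin 2 ⊕ Fin 2) F) : M4) by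
    simp only [mul_assoc, Units.inv_mul_cancel_left], sm_sq, Matrix.mul_smul, Matrix.smul_mul,
    Matrix.mul_one, Units.mul_inv] at h
  have := congrFun (congrFun h (.inl 0)) (.inl 0)
  simpa [klLin_apply] using this.symm

variable [Fact ((2 : F) ≠ 0)]

/-- The action of `Sp₄` on the five-space. -/
noncomputable def kl : ↥(Cfsg.spGL 2 F) →* IsoGrp (quadOdd 2 F) :=
  isoHom
    { toFun := fun g => LinearMap.toMatrix' (klLin (g : GL (Fin 2 ⊕ Fin 2) F))
      map_one' := by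
        rw [show klLin (((1 : ↥(Cfsg.spGL 2 F)) : GL (Fin 2 ⊕ Fin 2) F)) = (LinearMap.id : V5 →ₗ[F] V5)
          from LinearMap.ext fun v => by simp [klLin_apply, co_sm]]
        exact LinearMap.toMatrix'_id
      map_mul' := fun a b => by
        rw [← LinearMap.toMatrix'_comp]
        congr 1
        refine LinearMap.ext fun v => ?_
        rw [LinearMap.comp_apply, klLin_apply, klLin_apply, klLin_apply, sm_co_conj b.2 Fact.out]
        simp only [Subgroup.coe_mul, Units.val_mul, _root_.mul_inv_rev, mul_assoc] }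
    (fun g v => by
      show Q5 (LinearMap.toMatrix' (klLin _) *ᵥ v) = _
      rw [LinearMap.toMatrix'_mulVec]
      exact Q_klLin g.2 Fact.out v)

theorem sm_kl (g : ↥(Cfsg.spGL 2 F)) (v : V5) : sm (ap (kl g) v) =
    ((g : GL (Fin 2 ⊕ Fin 2) F) : M4) * sm v * (((g : GL (Fin 2 ⊕ Fin 2) F)⁻¹ : GL (Fin 2 ⊕ Fin 2) F) : M4) := by
  have h : ap (kl g) v = klLin (g : GL (Fin 2 ⊕ Fin 2) F) v := by
    show LinearMap.toMatrix' (klLin (g : GL (Fin 2 ⊕ Fin 2) F)) *ᵥ v = _
    exact LinearMap.toMatrix'_mulVec _ _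
  rw [h, klLin_apply, sm_co_conj g.2 Fact.out]

set_option maxHeartbeats 1000000 in
/-- The kernel consists of `±1`. -/
theorem kl_ker {g : ↥(Cfsg.spGL 2 F)} (hg : kl g = 1) :
    ((g : GL (Fin 2 ⊕ Fin 2) F) : M4) = 1 ∨ ((g : GL (Fin 2 ⊕ Fin 2) F) : M4) = -1 := by
  classical
  set G := ((g : GL (Fin 2 ⊕ Fin 2) F) : M4) with hG
  have hc : ∀ v, sm v * G = G * sm v := fun v => by
    have h := sm_kl g v
    rw [hg, ap_one] at h
    conv_lhs => rw [h]
    rw [hG, mul_assoc (_ * _), Units.inv_mul, mul_one]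
  have ha := fun i j => congrFun (congrFun (hc (Pi.single (.inl ()) 1)) i) j
  have hb := fun i j => congrFun (congrFun (hc (Pi.single (.inr (.inl 0)) 1)) i) j
  have hx := fun i j => congrFun (congrFun (hc (Pi.single (.inr (.inl 1)) 1)) i) j
  have h2 : (2 : F) ≠ 0 := Fact.out
  have hh : ∀ x : F, x = -x → x = 0 := fun x hx => by
    have : 2 * x = 0 := by linear_combination hx
    exact (mul_eq_zero.1 this).resolve_left h2
  have hcc := fun i j => congrFun (congrFun (hc (Pi.single (.inr (.inr 0)) 1)) i) j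
  have a1 := ha (.inl 0) (.inl 1); have a2 := ha (.inl 1) (.inl 0); have a3 := ha (.inl 0) (.inr 1)
  have a4 := ha (.inl 1) (.inr 0); have a5 := ha (.inr 0) (.inl 1); have a6 := ha (.inr 1) (.inl 0)
  have a7 := ha (.inr 0) (.inr 1); have a8 := ha (.inr 1) (.inr 0)
  have b1 := hb (.inl 0) (.inl 1); have b2 := hb (.inl 0) (.inr 1); have b6 := hb (.inr 1) (.inl 0)
  have c1 := hcc (.inl 1) (.inr 0)
  have x1 := hx (.inl 0) (.inr 1); have x2 := hx (.inl 1) (.inr 0); have x5 := hx (.inl 0) (.inl 1)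
  simp [Matrix.mul_apply, Fintype.sum_sum_type, Fin.sum_univ_two, sm, Pi.single_apply] at a1 a2 a3 a4 a5 a6 a7 a8 b1 b2 b6 c1 x1 x2 x5
  have n1 := hh _ a1
  have n2 := hh _ a2.symm
  have n3 := hh _ a3
  have n4 := hh _ a4.symm
  have n5 := hh _ a5
  have n6 := hh _ a6.symm
  have n7 := hh _ a7
  have n8 := hh _ a8.symm
  have hscal : G = G (.inl 0) (.inl 0) • (1 : M4) := by
    ext i j
    rcases i with i | i <;> rcases j with j | j <;> fin_cases i <;> fin_cases j <;>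
      simp [Matrix.one_apply, n1, n2, n3, n4, n5, n6, n7, n8, b1, b2, b6, c1, x1, x2, x5]
  have hiso := isIsom_mulVec g.2 (Pi.single (.inr 0) 1) (Pi.single (.inl 0) 1)
  rw [← hG, hscal, Matrix.smul_mulVec, Matrix.smul_mulVec, Matrix.one_mulVec, Matrix.one_mulVec] at hiso
  simp [f_apply] at hiso
  rcases mul_self_eq_one_iff.1 hiso with h | h
  · left; rw [hscal, h, one_smul]
  · right; rw [hscal, h, neg_smul, one_smul]

variable [Fintype F]

theorem good5 : Good (quadOdd 2 F) := Good.of_two_ne_zero (quadOdd_nondeg 2 Fact.out) Fact.out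

theorem refl_pair_mem_range {v w : V5} (hv : Q5 v ≠ 0) (hvw : Q5 w = Q5 v) :
    refl Q5 v * refl Q5 w ∈ (kl (F := F)).range := by
  have hw : Q5 w ≠ 0 := hvw ▸ hv
  let A : M4 := (Q5 v)⁻¹ • (sm v * sm w)
  let B : M4 := (Q5 v)⁻¹ • (sm w * sm v)
  have hAB : A * B = 1 := by
    simp only [A, B, Matrix.smul_mul, Matrix.mul_smul, smul_smul]
    rw [show sm v * sm w * (sm w * sm v) = sm v * (sm w * sm w) * sm v by simp only [mul_assoc],
      sm_sq, Matrix.mul_smul, Matrix.mul_one, Matrix.smul_mul, sm_sq, smul_smul, smul_smul, hvw]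
    field_simp
    exact one_smul F _
  have hBA : B * A = 1 := mul_eq_one_comm.1 hAB
  let g : GL (Fin 2 ⊕ Fin 2) F := ⟨A, B, hAB, hBA⟩
  have hg : g ∈ Cfsg.spGL 2 F := Transvect.mem_spGL_iff.2 fun x y => by
    show f (A *ᵥ x) (A *ᵥ y) = f x y
    have hb := (Transvect.sympForm_isSymplectic (F := F) 2).bilinear
    simp only [A, Matrix.smul_mulVec, hb.smul_left, hb.smul_right, ← Matrix.mulVec_mulVec]
    rw [isSA_sm v, Matrix.mulVec_mulVec, sm_sq, Matrix.smul_mulVec, Matrix.one_mulVec, hb.smul_right,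
      isSA_sm w, Matrix.mulVec_mulVec, sm_sq, Matrix.smul_mulVec, Matrix.one_mulVec, hb.smul_right, hvw]
    field_simp
  refine ⟨⟨g, hg⟩, ext_ap fun x => sm_inj ?_⟩
  rw [sm_kl]
  show A * sm x * B = _
  simp only [A, B, Matrix.smul_mul, Matrix.mul_smul, smul_smul]
  rw [show sm v * sm w * sm x * (sm w * sm v) = sm v * (sm w * sm x * sm w) * sm v by
      simp only [mul_assoc], sm_sandwich w x hw, Matrix.mul_smul, Matrix.smul_mul,
    sm_sandwich v _ hv, smul_smul, smul_smul, ← ap_mul, hvw]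
  rw [show (Q5 v)⁻¹ * (Q5 v)⁻¹ * -Q5 v * -Q5 v = 1 by field_simp, one_smul]

/-- The image contains `Ω₅`. -/
theorem omega_le_range_kl : Omega F ⇑Q5 ≤ (kl (F := F)).range := by
  have hG := good5 (F := F)
  obtain ⟨e, e', hp⟩ := exists_hpair hG.nd (by simp)
  rw [omega_eq_eichPair hG (by simp) (.inr (by simp)) hp, eichPair, Subgroup.closure_le]
  have key : ∀ a b : V5, HPair Q5 a b → ∀ w ∈ perp Q5 a b, eich Q5 a w ∈ (kl (F := F)).range := by
    intro a b hab w hw
    have hns : ∀ z ∈ perp Q5 a b, Q5 z ≠ 0 → eich Q5 a z ∈ (kl (F := F)).range := fun z hz hQz => by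
      rw [eich_eq_refl_pair hab.qe (mem_perp.1 hz).1 hQz]
      refine refl_pair_mem_range hQz ?_
      rw [Q_add, Q_smul, pl_smul_right, hab.qe, pl_comm Q5 z a, (mem_perp.1 hz).1]; ring
    by_cases hQw : Q5 w = 0
    swap; · exact hns w hw hQw
    obtain ⟨z, hz, hQz⟩ := hab.exists_nonsing_perp hG.nd (by simp)
    obtain ⟨z', hz', hz'0, hwz⟩ : ∃ z' ∈ perp Q5 a b, Q5 z' ≠ 0 ∧ Q5 (w + z') ≠ 0 := by
      by_cases h : Q5 (w + z) = 0
      · refine ⟨-z, neg_mem hz, by rwa [QuadraticMap.map_neg], fun h' => ?_⟩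
        rw [Q_add, hQw] at h
        rw [← sub_eq_add_neg, Q_sub, hQw] at h'
        exact mul_ne_zero (Fact.out : (2 : F) ≠ 0) hQz (by linear_combination h + h')
      · exact ⟨z, hz, hQz, h⟩
    have h1 := mul_mem (hns _ (add_mem hw hz') hwz) (inv_mem (hns z' hz' hz'0))
    rwa [eich_inv, eich_add hab.qe (by rw [pl_add_right, (mem_perp.1 hw).1, (mem_perp.1 hz').1, add_zero])
      (by rw [pl_neg_right, (mem_perp.1 hz').1, neg_zero]), add_neg_cancel_right] at h1
  rintro _ ⟨w, hw, rfl | rfl⟩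
  · exact key e e' hp w hw
  · exact key e' e hp.swap w (by rwa [perp_swap])

theorem sq_mem_omega5 (g : IsoGrp (quadOdd 2 F)) : g * g ∈ Omega F ⇑Q5 := by
  classical
  refine (mem_omega_iff good5 _).2 ⟨?_, ?_⟩
  · rw [dick_mul good5]; rcases dick_eq_or g with h | h <;> rw [h] <;> norm_num
  · rw [spin_mul good5]; rcases spin_eq_or good5 g with h | h <;> rw [h] <;> norm_num

/-- The image is `Ω₅`. -/
theorem kl_mem_omega (g : ↥(Cfsg.spGL 2 F)) : kl g ∈ Omega F ⇑Q5 := by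
  have hle : Cfsg.spGL 2 F ≤ ((Omega F ⇑Q5).comap kl).map (Cfsg.spGL 2 F).subtype := by
    intro x hx
    refine Transvect.isometry_mem_of_centres (Transvect.sympForm_isSymplectic 2) _ (fun v c => ?_)
      (Transvect.mem_spGL_iff.1 hx)
    let t : ↥(Cfsg.spGL 2 F) := ⟨Transvect.st (Transvect.sympForm_isSymplectic (F := F) 2) v (c / 2),
      Transvect.mem_spGL_iff.2 (Transvect.st_isIsom _ _ _)⟩
    refine ⟨t * t, by simpa using sq_mem_omega5 (kl t), Transvect.gl_ext fun y => ?_⟩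
    show app (Transvect.st (Transvect.sympForm_isSymplectic (F := F) 2) v (c / 2) * Transvect.st (Transvect.sympForm_isSymplectic (F := F) 2) v (c / 2)) y = _
    rw [map_mul, LinearEquiv.mul_apply]
    simp only [Transvect.st_apply, (Transvect.sympForm_isSymplectic (F := F) 2).bilinear.add_left,
      (Transvect.sympForm_isSymplectic (F := F) 2).bilinear.smul_left,
      (Transvect.sympForm_isSymplectic (F := F) 2).alternating, mul_zero, add_zero]
    have h2 : (2 : F) ≠ 0 := Fact.out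
    match_scalars <;> field_simp <;> ring
  obtain ⟨k, hk, hkg⟩ := hle g.2
  rwa [show k = g from Subtype.ext hkg] at hk

/-- Overgroups in `Sp₄` are determined by their images. -/
theorem spGL_le_of_image {M : Subgroup (GL (Fin 2 ⊕ Fin 2) F)}
    (hneg : (-1 : GL (Fin 2 ⊕ Fin 2) F) ∈ M)
    (h : Omega F ⇑Q5 ≤ (M.comap (Cfsg.spGL 2 F).subtype).map kl) : Cfsg.spGL 2 F ≤ M := by
  intro x hx
  obtain ⟨y, hy, hyx⟩ := h (kl_mem_omega ⟨x, hx⟩)
  have hk : kl (y⁻¹ * ⟨x, hx⟩) = 1 := by rw [map_mul, map_inv, hyx, inv_mul_cancel]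
  have hxy : x = (y : GL (Fin 2 ⊕ Fin 2) F) * ((y⁻¹ * ⟨x, hx⟩ : ↥(Cfsg.spGL 2 F)) : GL (Fin 2 ⊕ Fin 2) F) := by
    simp
  rw [hxy]
  refine mul_mem hy ?_
  rcases kl_ker hk with h1 | h1
  · rw [show ((y⁻¹ * ⟨x, hx⟩ : ↥(Cfsg.spGL 2 F)) : GL (Fin 2 ⊕ Fin 2) F) = 1 from Units.ext h1]
    exact one_mem _
  · rw [show ((y⁻¹ * ⟨x, hx⟩ : ↥(Cfsg.spGL 2 F)) : GL (Fin 2 ⊕ Fin 2) F) = -1 from
      Units.ext (h1.trans (by simp))]
    exact hneg

end Cfsg.Agent.Orth.SpKlein
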