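import Cfsg.Agent.Lib.Orth.SpKlein.Basic
import Cfsg.Agent.Lib.Orth.LineFive.Main
import Cfsg.Agent.Lib.Transvect.LagPair

/-!
# Normalisers of anti-self-adjoint quadratic elements are maximal in `Sp₄(q)`, `q ≥ 5` odd

* `skew_normalizer_maximal`
-/

set_option autoImplicit false
set_option linter.unusedSectionVars false

namespace Cfsg.Agent.Orth.SpKlein

open Cfsg Matrix Module
open QuadraticMap (polar)

variable {F : Type*} [Field F]

local notation "V4" => Fin 2 ⊕ Fin 2 → F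
local notation "V5" => Unit ⊕ (Fin 2 ⊕ Fin 2) → F
local notation "M4" => Matrix (Fin 2 ⊕ Fin 2) (Fin 2 ⊕ Fin 2) F
local notation "Q5" => quadOdd 2 F
local notation "f" => Cfsg.sympForm 2 F

theorem isBil : Cfsg.Geo.IsBilinearForm f := (Transvect.sympForm_isSymplectic (F := F) 2).bilinear

theorem f_skew (u v : V4) : f u v = -f v u := (Transvect.sympForm_isSymplectic (F := F) 2).skew u v

/-- A linear functional `x ↦ f u x` as the rows of a matrix. -/
def bra (u : V4) : V4 := Matrix.transpose (Matrix.J (Fin 2) F) *ᵥ u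

theorem bra_dot (u x : V4) : bra u ⬝ᵥ x = f u x := by
  rw [bra, Cfsg.sympForm, Matrix.mulVec_transpose, ← Matrix.dotProduct_mulVec]

/-- The self-adjoint operator of two vectors. -/
def wedge (a b : V4) : M4 := vecMulVec a (bra b) - vecMulVec b (bra a)

theorem wedge_mulVec (a b x : V4) : wedge a b *ᵥ x = f b x • a - f a x • b := by
  rw [wedge, Matrix.sub_mulVec, Matrix.vecMulVec_mulVec, Matrix.vecMulVec_mulVec, bra_dot, bra_dot]
  ext i; simp [mul_comm]

theorem isSA_wedge (a b : V4) : IsSA (wedge a b) := fun u v => by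
  simp only [wedge_mulVec, ← Transvect.bl_apply (Transvect.sympForm_isSymplectic (F := F) 2), map_sub,
    map_smul, LinearMap.sub_apply, LinearMap.smul_apply, smul_eq_mul]
  simp only [Transvect.bl_apply, f_skew u a, f_skew u b]
  ring

theorem IsSA.add {A B : M4} (hA : IsSA A) (hB : IsSA B) : IsSA (A + B) := fun u v => by
  simp only [Matrix.add_mulVec, isBil.add_left, isBil.add_right, hA u v, hB u v]

/-- An anti-commuting self-adjoint matrix with non-zero square. -/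
theorem exists_anti (h2 : (2 : F) ≠ 0) {J : M4} {d : F} (hd : d ≠ 0) (hJ2 : J * J = d • 1)
    (hskew : ∀ u v, f (J *ᵥ u) v = -f u (J *ᵥ v)) :
    ∃ m : M4, IsSA m ∧ m * J = -(J * m) ∧ ∃ e : V4, m *ᵥ (m *ᵥ e) ≠ 0 := by
  have hJJ : ∀ x : V4, J *ᵥ (J *ᵥ x) = d • x := fun x => by
    rw [Matrix.mulVec_mulVec, hJ2, Matrix.smul_mulVec, Matrix.one_mulVec]
  set b := Transvect.bl (Transvect.sympForm_isSymplectic (F := F) 2) with hb
  have hsym : ∀ u v, f u (J *ᵥ v) = f v (J *ᵥ u) := fun u v => by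
    rw [f_skew u (J *ᵥ v), hskew, neg_neg]
  have hbil : ∀ u v, b u v = f u v := fun u v => Transvect.bl_apply _ u v
  -- a non-isotropic vector
  obtain ⟨e, he⟩ : ∃ e : V4, f e (J *ᵥ e) ≠ 0 := by
    by_contra! hall
    obtain ⟨x, hx⟩ := exists_ne (0 : V4)
    obtain ⟨⟨u, hu⟩, -⟩ := (Transvect.sympForm_isSymplectic (F := F) 2).nondegenerate x hx
    have h := hall (u + J *ᵥ x)
    rw [Matrix.mulVec_add, isBil.add_left, isBil.add_right, isBil.add_right, hall, hall, hsym (J *ᵥ x) u,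
      hJJ, isBil.smul_right, zero_add, add_zero] at h
    have : 2 * (d * f u x) = 0 := by linear_combination h
    exact mul_ne_zero h2 (mul_ne_zero hd hu) this
  -- a second one orthogonal to the first plane
  have hres : ∀ x : V4, ∃ α β : F,
      f (x - α • e - β • (J *ᵥ e)) (J *ᵥ e) = 0 ∧ f (x - α • e - β • (J *ᵥ e)) e = 0 := fun x => by
    refine ⟨f x (J *ᵥ e) / f e (J *ᵥ e), -(f x e / f e (J *ᵥ e)), ?_, ?_⟩
    · rw [← hbil, map_sub, map_sub, map_smul, map_smul, LinearMap.sub_apply, LinearMap.sub_apply,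
        LinearMap.smul_apply, LinearMap.smul_apply, hbil, hbil, hbil,
        (Transvect.sympForm_isSymplectic (F := F) 2).alternating, smul_eq_mul, smul_eq_mul,
        mul_zero, sub_zero, div_mul_cancel₀ _ he, sub_self]
    · rw [← hbil, map_sub, map_sub, map_smul, map_smul, LinearMap.sub_apply, LinearMap.sub_apply,
        LinearMap.smul_apply, LinearMap.smul_apply, hbil, hbil, hbil,
        (Transvect.sympForm_isSymplectic (F := F) 2).alternating, smul_eq_mul, smul_eq_mul,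
        mul_zero, sub_zero, f_skew (J *ᵥ e) e, neg_mul_neg, div_mul_cancel₀ _ he, sub_self]
  obtain ⟨e', he1, he2, he'⟩ : ∃ e' : V4, f e' (J *ᵥ e) = 0 ∧ f e' e = 0 ∧ f e' (J *ᵥ e') ≠ 0 := by
    by_contra! hall
    have hle : (⊤ : Submodule F V4) ≤ (F ∙ e) ⊔ (F ∙ (J *ᵥ e)) := by
      intro x _
      obtain ⟨α, β, h1, h2'⟩ := hres x
      obtain ⟨r, hr⟩ : ∃ r, r = x - α • e - β • (J *ᵥ e) := ⟨_, rfl⟩
      rw [← hr] at h1 h2'
      have hr0 : r = 0 := by
        by_contra h0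
        obtain ⟨⟨u, hu⟩, -⟩ := (Transvect.sympForm_isSymplectic (F := F) 2).nondegenerate r h0
        obtain ⟨α', β', g1, g2⟩ := hres u
        set y := u - α' • e - β' • (J *ᵥ e) with hy
        -- the form of `J` vanishes on the orthogonal plane
        have hJr1 : f (J *ᵥ r) (J *ᵥ e) = 0 := by
          rw [hskew, hJJ, isBil.smul_right, h2', mul_zero, neg_zero]
        have hJr2 : f (J *ᵥ r) e = 0 := by rw [hskew, h1, neg_zero]
        have hsum := hall (y + J *ᵥ r) (by rw [isBil.add_left, g1, hJr1, add_zero])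
          (by rw [isBil.add_left, g2, hJr2, add_zero])
        rw [Matrix.mulVec_add, isBil.add_left, isBil.add_right, isBil.add_right, hall y g1 g2,
          hall _ hJr1 hJr2, hsym (J *ᵥ r) y, hJJ, isBil.smul_right, zero_add, add_zero] at hsum
        have hyr : f y r = f u r := by
          rw [hy, ← hbil, map_sub, map_sub, map_smul, map_smul, LinearMap.sub_apply, LinearMap.sub_apply,
            LinearMap.smul_apply, LinearMap.smul_apply, hbil, hbil, hbil, f_skew e r, f_skew (J *ᵥ e) r,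
            h1, h2']
          simp
        rw [hyr] at hsum
        have : 2 * (d * f u r) = 0 := by linear_combination hsum
        exact mul_ne_zero h2 (mul_ne_zero hd hu) this
      rw [hr, sub_sub, sub_eq_zero] at hr0
      rw [hr0]
      exact Submodule.add_mem_sup (Submodule.smul_mem _ _ (Submodule.mem_span_singleton_self e))
        (Submodule.smul_mem _ _ (Submodule.mem_span_singleton_self (J *ᵥ e)))
    have h1 := Submodule.finrank_mono hle
    have h3 := Submodule.finrank_sup_add_finrank_inf_eq (F ∙ e) (F ∙ (J *ᵥ e))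
    have hs : ∀ v : V4, finrank F (F ∙ v) ≤ 1 := fun v => by
      rcases eq_or_ne v 0 with rfl | hv
      · rw [Submodule.span_zero_singleton, finrank_bot]; omega
      · rw [finrank_span_singleton hv]
    have := hs e
    have := hs (J *ᵥ e)
    rw [finrank_top, Module.finrank_fintype_fun_eq_card] at h1
    simp only [Fintype.card_sum, Fintype.card_fin] at h1
    omega
  refine ⟨wedge e (J *ᵥ e') + wedge (J *ᵥ e) e', (isSA_wedge _ _).add (isSA_wedge _ _), ?_, e, ?_⟩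
  · refine Matrix.ext_of_mulVec_single fun i => ?_
    simp only [Matrix.neg_mulVec, ← Matrix.mulVec_mulVec, Matrix.add_mulVec, wedge_mulVec,
      Matrix.mulVec_add, Matrix.mulVec_sub, Matrix.mulVec_smul, hJJ, hskew, isBil.smul_right]
    module
  · have hme : (wedge e (J *ᵥ e') + wedge (J *ᵥ e) e') *ᵥ e = f e (J *ᵥ e) • e' := by
      rw [Matrix.add_mulVec, wedge_mulVec, wedge_mulVec, hskew e' e, he1, he2,
        (Transvect.sympForm_isSymplectic (F := F) 2).alternating, f_skew (J *ᵥ e) e]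
      simp
    have h1 : f (J *ᵥ e) e' = 0 := by rw [f_skew, he1, neg_zero]
    have h3 : f e e' = 0 := by rw [f_skew, he2, neg_zero]
    have hme' : (wedge e (J *ᵥ e') + wedge (J *ᵥ e) e') *ᵥ e' = -f e' (J *ᵥ e') • e := by
      rw [Matrix.add_mulVec, wedge_mulVec, wedge_mulVec, hskew e' e', h1, h3,
        (Transvect.sympForm_isSymplectic (F := F) 2).alternating]
      simp
    rw [hme, Matrix.mulVec_smul, hme', smul_smul]
    refine smul_ne_zero (mul_ne_zero he (neg_ne_zero.2 he')) fun h => he ?_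
    rw [h]; simpa using isBil.smul_left (0 : F) (0 : V4) (J *ᵥ (0 : V4))

theorem trace_eq_zero_of_anti (h2 : (2 : F) ≠ 0) {A J : M4} {d : F} (hd : d ≠ 0) (hJ2 : J * J = d • 1)
    (hA : A * J = -(J * A)) : A.trace = 0 := by
  have h1 : (A * J * J).trace = -(A * J * J).trace := by
    conv_lhs => rw [hA]
    rw [Matrix.neg_mul, Matrix.trace_neg, Matrix.trace_mul_comm, ← mul_assoc, hJ2, mul_assoc A J J,
      hJ2, Matrix.smul_mul, Matrix.one_mul, Matrix.mul_smul, Matrix.mul_one]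
  rw [mul_assoc, hJ2, Matrix.mul_smul, Matrix.mul_one, Matrix.trace_smul, smul_eq_mul] at h1
  have : 2 * (d * A.trace) = 0 := by linear_combination h1
  exact (mul_eq_zero.1 ((mul_eq_zero.1 this).resolve_left h2)).resolve_left hd

variable [Fintype F]

/-- The subgroup of `Sp₄` normalising `F·J` is maximal. -/
theorem skew_normalizer_maximal (h2 : (2 : F) ≠ 0) (h5 : 5 ≤ Fintype.card F) {J : M4} {d : F}
    (hd : d ≠ 0) (hJ2 : J * J = d • 1) (hskew : ∀ u v, f (J *ᵥ u) v = -f u (J *ᵥ v))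
    (H : Subgroup (GL (Fin 2 ⊕ Fin 2) F)) (hHS : H ≤ Cfsg.spGL 2 F)
    (hH : ∀ g ∈ Cfsg.spGL 2 F, g ∈ H ↔ ∃ s : F, (g : M4) * J = s • (J * (g : M4))) :
    Cfsg.Geo.IsMaximalIn (Cfsg.spGL 2 F) H := by
  classical
  haveI : Fact ((2 : F) ≠ 0) := ⟨h2⟩
  obtain ⟨m, hmSA, hmJ, e, hme⟩ := exists_anti h2 hd hJ2 hskew
  have hJmJ : J * m * J = -(d • m) := by
    rw [mul_assoc, hmJ, Matrix.mul_neg, ← mul_assoc, hJ2, Matrix.smul_mul, Matrix.one_mul]
  obtain ⟨p1, hp1⟩ : ∃ p, sm p = m := ⟨co m, sm_co hmSA (trace_eq_zero_of_anti h2 hd hJ2 hmJ) h2⟩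
  have hJmSA : IsSA (J * m) := fun u v => by
    rw [← Matrix.mulVec_mulVec, hskew, hmSA, show J * m = -(m * J) by rw [hmJ, neg_neg],
      Matrix.neg_mulVec, ← Matrix.mulVec_mulVec]
    rw [← neg_one_smul F (m *ᵥ (J *ᵥ v)), isBil.smul_right, neg_one_mul]
  have hJm : (J * m) * J = -(J * (J * m)) := by
    rw [mul_assoc, hmJ, Matrix.mul_neg]
  obtain ⟨p2, hp2⟩ : ∃ p, sm p = J * m :=
    ⟨co (J * m), sm_co hJmSA (trace_eq_zero_of_anti h2 hd hJ2 hJm) h2⟩
  set k := Q5 p1 with hk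
  have hk0 : k ≠ 0 := fun h0 => hme (by
    rw [Matrix.mulVec_mulVec, ← hp1, sm_sq, ← hk, h0, zero_smul, Matrix.zero_mulVec])
  have hmm : m * m = k • (1 : M4) := by rw [← hp1, sm_sq]
  have hsmul : ∀ {a b : F}, a • (1 : M4) = b • (1 : M4) → a = b := fun {a b} h => by
    simpa using congrFun (congrFun h (.inl 0)) (.inl 0)
  have hpl : polar ⇑Q5 p1 p2 = 0 := hsmul (by
    rw [← sm_anti, hp1, hp2, zero_smul, ← mul_assoc, hmJ, Matrix.neg_mul, mul_assoc, hmm,
      Matrix.mul_smul, Matrix.mul_one]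
    abel)
  have hk2 : Q5 p2 ≠ 0 := fun h0 => mul_ne_zero hd hk0 (neg_eq_zero.1 (hsmul (a := -(d * k)) (b := 0) (by
    rw [zero_smul]
    have := sm_sq p2
    rw [h0, zero_smul, hp2, ← mul_assoc, hJmJ, Matrix.neg_mul, Matrix.smul_mul, hmm, smul_smul] at this
    rw [neg_smul, this])))
  have hprod : sm p1 * sm p2 = -(k • J) := by
    rw [hp1, hp2, ← mul_assoc, hmJ, Matrix.neg_mul, mul_assoc, hmm, Matrix.mul_smul, Matrix.mul_one]
  let P : Submodule F V5 := (F ∙ p1) ⊔ (F ∙ p2)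
  have hmemP : ∀ {y}, y ∈ P → ∃ a b : F, a • p1 + b • p2 = y := fun {y} hy => by
    obtain ⟨_, h1, _, h2', rfl⟩ := Submodule.mem_sup.1 hy
    obtain ⟨a, rfl⟩ := Submodule.mem_span_singleton.1 h1
    obtain ⟨b, rfl⟩ := Submodule.mem_span_singleton.1 h2'
    exact ⟨a, b, rfl⟩
  have hp1P : p1 ∈ P := Submodule.mem_sup_left (Submodule.mem_span_singleton_self _)
  have hp2P : p2 ∈ P := Submodule.mem_sup_right (Submodule.mem_span_singleton_self _)
  have hp10 : p1 ≠ 0 := fun h0 => hk0 (by rw [hk, h0, QuadraticMap.map_zero])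
  have S : LineFive.Setting Q5 P := by
    refine ⟨good5, h2, h5, by simp, fun x hx hx0 => ?_, ?_⟩
    · obtain ⟨a, b, rfl⟩ := hmemP hx
      by_cases ha : a = 0
      · refine ⟨p2, hp2P, fun h0 => hx0 ?_⟩
        rw [ha, zero_smul, zero_add, pl_smul_left, pl_self] at h0
        rw [ha, (mul_eq_zero.1 h0).resolve_right (mul_ne_zero h2 hk2), zero_smul, zero_smul, add_zero]
      · refine ⟨p1, hp1P, ?_⟩
        rw [pl_add_left, pl_smul_left, pl_smul_left, pl_self, pl_comm Q5 p2, hpl, mul_zero, add_zero]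
        exact mul_ne_zero ha (mul_ne_zero h2 hk0)
    · have h1 := Submodule.finrank_sup_add_finrank_inf_eq (F ∙ p1) (F ∙ p2)
      have hb : (F ∙ p1) ⊓ (F ∙ p2) = ⊥ := by
        rw [eq_bot_iff]
        rintro y ⟨hy1, hy2⟩
        obtain ⟨a, rfl⟩ := Submodule.mem_span_singleton.1 hy1
        obtain ⟨b, hb⟩ := Submodule.mem_span_singleton.1 hy2
        have h3 := congrArg (polar ⇑Q5 p1) hb
        rw [pl_smul_right, pl_smul_right, hpl, mul_zero, pl_self] at h3
        rw [(mul_eq_zero.1 h3.symm).resolve_right (mul_ne_zero h2 hk0), zero_smul]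
        exact Submodule.zero_mem _
      rw [hb, finrank_bot, finrank_span_singleton hp10,
        finrank_span_singleton (fun h0 : p2 = 0 => hk2 (by rw [h0, QuadraticMap.map_zero]))] at h1
      exact h1
  -- the plane is the anticommutant of `J`
  have hanti : ∀ y, sm y * J = -(J * sm y) → y ∈ P := by
    intro y hy
    obtain ⟨p, hp, x, hx, rfl⟩ := exists_proj good5.nd S.nd y
    have hx1 : sm x * sm p1 = -(sm p1 * sm x) := eq_neg_of_add_eq_zero_left (by
      rw [sm_anti, pl_comm, mem_perpSub.1 hx p1 hp1P, zero_smul])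
    have hx2 : sm x * sm p2 = -(sm p2 * sm x) := eq_neg_of_add_eq_zero_left (by
      rw [sm_anti, pl_comm, mem_perpSub.1 hx p2 hp2P, zero_smul])
    have hxJ : sm x * J = J * sm x := by
      have h3 : sm x * (sm p1 * sm p2) = sm p1 * sm p2 * sm x := by
        rw [← mul_assoc, hx1, Matrix.neg_mul, mul_assoc, hx2, Matrix.mul_neg, neg_neg, mul_assoc]
      rw [hprod, Matrix.mul_neg, Matrix.neg_mul, neg_inj, Matrix.mul_smul, Matrix.smul_mul] at h3
      exact smul_right_injective M4 hk0 h3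
    obtain ⟨a, b, rfl⟩ := hmemP hp
    simp only [map_add, map_smul, hp1, hp2, add_mul, mul_add, Matrix.smul_mul, Matrix.mul_smul, hmJ,
      hJm, hxJ, neg_add, smul_neg] at hy
    have h4 : J * sm x + J * sm x = 0 := by linear_combination (norm := module) hy
    rw [← two_smul F] at h4
    have h5' := congrArg (J * ·) ((smul_eq_zero.1 h4).resolve_left h2)
    simp only [← mul_assoc, hJ2, Matrix.smul_mul, Matrix.one_mul, mul_zero] at h5'
    have hx0 : x = 0 := sm_inj (by rw [(smul_eq_zero.1 h5').resolve_left hd, map_zero])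
    rw [hx0, add_zero]; exact hp
  have hJ0 : J ≠ 0 := fun h0 => hd (hsmul (a := d) (b := 0) (by rw [← hJ2, h0, mul_zero, zero_smul]))
  -- membership in `H` is the stabilisation of `P`
  have hHP : ∀ g : ↥(Cfsg.spGL 2 F), (g : GL (Fin 2 ⊕ Fin 2) F) ∈ H ↔ ∀ y ∈ P, ap (kl g) y ∈ P := by
    intro g
    have hGi : (((g : GL (Fin 2 ⊕ Fin 2) F)⁻¹ : GL (Fin 2 ⊕ Fin 2) F) : M4) * ((g : GL (Fin 2 ⊕ Fin 2) F) : M4) = 1 := Units.inv_mul _
    have hGi' : ((g : GL (Fin 2 ⊕ Fin 2) F) : M4) * (((g : GL (Fin 2 ⊕ Fin 2) F)⁻¹ : GL (Fin 2 ⊕ Fin 2) F) : M4) = 1 := Units.mul_inv _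
    rw [hH _ g.2]
    constructor
    · rintro ⟨s, hs⟩ y hy
      have hs0 : s ≠ 0 := fun h0 => hJ0 (by
        rw [h0, zero_smul] at hs
        have := congrArg ((((g : GL (Fin 2 ⊕ Fin 2) F)⁻¹ : GL (Fin 2 ⊕ Fin 2) F) : M4) * ·) hs
        simpa only [← mul_assoc, hGi, one_mul, mul_zero] using this)
      refine hanti _ ?_
      have hyJ : sm y * J = -(J * sm y) := by
        obtain ⟨a, b, rfl⟩ := hmemP hy
        simp only [map_add, map_smul, hp1, hp2, add_mul, mul_add, Matrix.smul_mul, Matrix.mul_smul,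
          hmJ, hJm, smul_neg, neg_add]
      have hGJ : J * ((g : GL (Fin 2 ⊕ Fin 2) F) : M4) = s⁻¹ • (((g : GL (Fin 2 ⊕ Fin 2) F) : M4) * J) := by rw [hs, inv_smul_smul₀ hs0]
      have hGiJ : (((g : GL (Fin 2 ⊕ Fin 2) F)⁻¹ : GL (Fin 2 ⊕ Fin 2) F) : M4) * J = s⁻¹ • (J * (((g : GL (Fin 2 ⊕ Fin 2) F)⁻¹ : GL (Fin 2 ⊕ Fin 2) F) : M4)) := by
        have h3 := congrArg (fun X => (((g : GL (Fin 2 ⊕ Fin 2) F)⁻¹ : GL (Fin 2 ⊕ Fin 2) F) : M4) * X * (((g : GL (Fin 2 ⊕ Fin 2) F)⁻¹ : GL (Fin 2 ⊕ Fin 2) F) : M4)) hGJ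
        simp only [Matrix.mul_smul, Matrix.smul_mul, ← mul_assoc, hGi, one_mul] at h3
        rw [mul_assoc ((((g : GL (Fin 2 ⊕ Fin 2) F)⁻¹ : GL (Fin 2 ⊕ Fin 2) F) : M4) * J), hGi', mul_one] at h3
        exact h3
      rw [sm_kl]
      calc ((g : GL (Fin 2 ⊕ Fin 2) F) : M4) * sm y * (((g : GL (Fin 2 ⊕ Fin 2) F)⁻¹ : GL (Fin 2 ⊕ Fin 2) F) : M4) * J = s⁻¹ • (((g : GL (Fin 2 ⊕ Fin 2) F) : M4) * (sm y * J) * (((g : GL (Fin 2 ⊕ Fin 2) F)⁻¹ : GL (Fin 2 ⊕ Fin 2) F) : M4)) := by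
            rw [mul_assoc (((g : GL (Fin 2 ⊕ Fin 2) F) : M4) * sm y), hGiJ, Matrix.mul_smul]; simp only [mul_assoc]
        _ = -(s⁻¹ • (((g : GL (Fin 2 ⊕ Fin 2) F) : M4) * J * (sm y * (((g : GL (Fin 2 ⊕ Fin 2) F)⁻¹ : GL (Fin 2 ⊕ Fin 2) F) : M4)))) := by
            rw [hyJ, Matrix.mul_neg, Matrix.neg_mul, smul_neg]; simp only [mul_assoc]
        _ = -(J * (((g : GL (Fin 2 ⊕ Fin 2) F) : M4) * sm y * (((g : GL (Fin 2 ⊕ Fin 2) F)⁻¹ : GL (Fin 2 ⊕ Fin 2) F) : M4))) := by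
            rw [hs, Matrix.smul_mul, inv_smul_smul₀ hs0]; simp only [mul_assoc]
    · intro hgP
      obtain ⟨a, b, hab⟩ := hmemP (hgP p1 hp1P)
      obtain ⟨c, e', hce⟩ := hmemP (hgP p2 hp2P)
      have h1 : ((g : GL (Fin 2 ⊕ Fin 2) F) : M4) * (sm p1 * sm p2) * (((g : GL (Fin 2 ⊕ Fin 2) F)⁻¹ : GL (Fin 2 ⊕ Fin 2) F) : M4) = (a • sm p1 + b • sm p2) * (c • sm p1 + e' • sm p2) := by
        rw [← map_smul, ← map_smul, ← map_smul, ← map_smul, ← map_add, ← map_add, hab, hce, sm_kl, sm_kl]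
        simp only [mul_assoc, Units.inv_mul_cancel_left]
      have h21 : sm p2 * sm p1 = k • J := by
        rw [eq_sub_of_add_eq' (sm_anti p1 p2), hpl, zero_smul, zero_sub, hprod, neg_neg]
      have h0 : a * c * k + b * e' * Q5 p2 = 0 := by
        have h3 := polar_ap (kl g) p1 p2
        rw [← hab, ← hce, hpl] at h3
        simp only [pl_add_left, pl_add_right, pl_smul_left, pl_smul_right, pl_self, pl_comm Q5 p2 p1,
          hpl, ← hk] at h3
        exact (mul_eq_zero.1 (show 2 * (a * c * k + b * e' * Q5 p2) = 0 by linear_combination h3)).resolve_left h2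
      simp only [add_mul, mul_add, Matrix.smul_mul, Matrix.mul_smul, hprod, h21, sm_sq, ← hk,
        Matrix.mul_neg, Matrix.neg_mul] at h1
      refine ⟨a * e' - b * c, ?_⟩
      have h4 : ((g : GL (Fin 2 ⊕ Fin 2) F) : M4) * J * (((g : GL (Fin 2 ⊕ Fin 2) F)⁻¹ : GL (Fin 2 ⊕ Fin 2) F) : M4) = (a * e' - b * c) • J := by
        refine smul_right_injective M4 (neg_ne_zero.2 hk0) ?_
        show -k • (((g : GL (Fin 2 ⊕ Fin 2) F) : M4) * J * (((g : GL (Fin 2 ⊕ Fin 2) F)⁻¹ : GL (Fin 2 ⊕ Fin 2) F) : M4)) = -k • ((a * e' - b * c) • J)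
        rw [neg_smul, h1]
        linear_combination (norm := module) congrArg (· • (1 : M4)) h0
      have h5'' := congrArg (· * ((g : GL (Fin 2 ⊕ Fin 2) F) : M4)) h4
      simp only [mul_assoc, hGi, mul_one, Matrix.smul_mul] at h5''
      exact h5''
  have hneg : (-1 : GL (Fin 2 ⊕ Fin 2) F) ∈ H := by
    refine (hH _ (Transvect.mem_spGL_iff.2 fun x y => ?_)).2 ⟨1, ?_⟩
    · show f ((-1 : M4) *ᵥ x) ((-1 : M4) *ᵥ y) = f x y
      rw [Matrix.neg_mulVec, Matrix.neg_mulVec, Matrix.one_mulVec, Matrix.one_mulVec,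
        ← neg_one_smul F x, ← neg_one_smul F y, isBil.smul_left, isBil.smul_right]
      ring
    · show (-1 : M4) * J = (1 : F) • (J * -1)
      simp
  refine Transvect.isMaximalIn_of_forall hHS ?_ fun M hHM hMS g hg hgH => ?_
  · obtain ⟨h, hh, p, hp, hhp⟩ := LineFive.exists_omega_move_plane S
    obtain ⟨g, rfl⟩ := omega_le_range_kl hh
    exact ⟨g, g.2, fun hgH => hhp ((hHP g).1 hgH p hp)⟩
  · refine spGL_le_of_image (hHM hneg) ?_
    set N := (M.comap (Cfsg.spGL 2 F).subtype).map kl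
    have hN : ∀ h, h ∈ Omega F ⇑Q5 → (∀ y ∈ P, ap h y ∈ P) → h ∈ N := fun h hh hP => by
      obtain ⟨x, rfl⟩ := omega_le_range_kl hh
      exact ⟨x, hHM ((hHP x).2 hP), rfl⟩
    have hgs := hMS hg
    obtain ⟨p, hp, hgp⟩ : ∃ p ∈ P, ap (kl ⟨g, hgs⟩) p ∉ P := by
      by_contra! hall
      exact hgH ((hHP ⟨g, hgs⟩).2 hall)
    exact LineFive.omega_le_of_line S hN ⟨⟨g, hgs⟩, hg, rfl⟩ hp hgp

end Cfsg.Agent.Orth.SpKlein
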